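import Mathlib
import Groth.Prelude.Def_Curv2
import Groth.Prelude.Def_Pi1
import Groth.Agent.H38.NormUP7
import Groth.Agent.H38.NormAffine3
import Groth.Agent.H39.SmoothStalk
import Groth.Agent.H17.MaxPoints
import Groth.Agent.H51.FlatValLift

/-!
# Normalization commutes with smooth base change (integral case, via universal properties)
-/

set_option autoImplicit false
universe u

open AlgebraicGeometry CategoryTheory CategoryTheory.Limits

namespace Groth.Agent.H68.NormSmooth

/-- A flat morphism maps maximal points to maximal points. -/
theorem flat_map_generic {X Y : Scheme.{u}} (f : X ⟶ Y) [Flat f] (x : X)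
    (hx : closure {x} ∈ irreducibleComponents X) (y : Y) (hy : y ⤳ f x) : y = f x := by
  obtain ⟨x', hx', hfx'⟩ := Flat.generalizingMap f hy
  have := Groth.Agent.H17.eq_of_specializes_of_mem_irreducibleComponents hx hx'
  rw [← hfx', this]

/-- A flat morphism to an irreducible scheme maps maximal points to the generic point. -/
theorem flat_map_generic_eq {X Y : Scheme.{u}} (f : X ⟶ Y) [Flat f] [IrreducibleSpace Y] (x : X)
    (hx : closure {x} ∈ irreducibleComponents X) : f x = genericPoint Y :=
  (flat_map_generic f x hx _ (genericPoint_specializes _)).symm

theorem closure_genericPoint_mem {X : Scheme.{u}} [IrreducibleSpace X] :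
    closure {genericPoint X} ∈ irreducibleComponents X := by
  rw [(genericPoint_spec X).def, irreducibleComponents_eq_singleton]
  rfl

end Groth.Agent.H68.NormSmooth
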