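import Groth.Agent.H68.NormSmooth.Main
import Groth.Agent.H38.NormUP4

/-!
# Normalization commutes with smooth base change (integral case): the isomorphism
-/

set_option autoImplicit false
universe u

open AlgebraicGeometry CategoryTheory CategoryTheory.Limits

namespace Groth.Agent.H68.NormSmooth

variable {X Y : Scheme.{u}} (f : X ⟶ Y) [Smooth f] [IsIntegral X] [IsIntegral Y]
  [QuasiCompact (X.fromSpecStalk (genericPoint X))]
  [QuasiSeparated (X.fromSpecStalk (genericPoint X))]
  [QuasiCompact (Y.fromSpecStalk (genericPoint Y))]
  [QuasiSeparated (Y.fromSpecStalk (genericPoint Y))]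

omit [Smooth f] [IsIntegral Y] [QuasiCompact (Y.fromSpecStalk (genericPoint Y))]
  [QuasiSeparated (Y.fromSpecStalk (genericPoint Y))] in
/-- maximal points of the normalization map to the generic point -/
theorem normalization_generic (z : (X.fromSpecStalk (genericPoint X)).normalization)
    (hz : closure {z} ∈ irreducibleComponents _) :
    (X.fromSpecStalk (genericPoint X)).fromNormalization z = genericPoint X := by
  have h1 : genericPoint _ = z :=
    Groth.Agent.H17.eq_of_specializes_of_mem_irreducibleComponents hz (genericPoint_specializes z)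
  rw [← h1]
  exact Groth.Agent.H38.NormAffine.fromNormalization_genericPoint X

/-- **Normalization commutes with smooth base change** (integral case), with uniqueness. -/
theorem exists_isIso :
    ∃ h : pullback f (Y.fromSpecStalk (genericPoint Y)).fromNormalization ⟶
        (X.fromSpecStalk (genericPoint X)).normalization,
      IsIso h ∧ h ≫ (X.fromSpecStalk (genericPoint X)).fromNormalization =
        pullback.fst f (Y.fromSpecStalk (genericPoint Y)).fromNormalization ∧
      ∀ k : (X.fromSpecStalk (genericPoint X)).normalization ⟶
          pullback f (Y.fromSpecStalk (genericPoint Y)).fromNormalization,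
        k ≫ pullback.fst f (Y.fromSpecStalk (genericPoint Y)).fromNormalization =
          (X.fromSpecStalk (genericPoint X)).fromNormalization → k ≫ h = 𝟙 _ := by
  have hW := isNormalScheme_pullback f
  have hXν : Pi1.IsNormalScheme (X.fromSpecStalk (genericPoint X)).normalization :=
    Groth.Agent.H38.NormAffine.isNormalScheme_normalization X
  -- the morphism `h`
  obtain ⟨h, hh, -⟩ := Groth.Agent.H38.NormUP.existsUnique_hom X
    (pullback.fst f (Y.fromSpecStalk (genericPoint Y)).fromNormalization) hW (fst_generic f)
  -- endomorphisms of `X^ν` over `X`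
  obtain ⟨u, -, hu⟩ := Groth.Agent.H38.NormUP.existsUnique_hom X
    (X.fromSpecStalk (genericPoint X)).fromNormalization hXν (normalization_generic)
  have hend : ∀ k' : (X.fromSpecStalk (genericPoint X)).normalization ⟶
      (X.fromSpecStalk (genericPoint X)).normalization,
      k' ≫ (X.fromSpecStalk (genericPoint X)).fromNormalization =
        (X.fromSpecStalk (genericPoint X)).fromNormalization → k' = 𝟙 _ := by
    intro k' hk'
    rw [hu k' hk', hu (𝟙 _) (Category.id_comp _)]
  have hk_h : ∀ k : (X.fromSpecStalk (genericPoint X)).normalization ⟶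
          pullback f (Y.fromSpecStalk (genericPoint Y)).fromNormalization,
        k ≫ pullback.fst f (Y.fromSpecStalk (genericPoint Y)).fromNormalization =
          (X.fromSpecStalk (genericPoint X)).fromNormalization → k ≫ h = 𝟙 _ := by
    intro k hk
    apply hend
    rw [Category.assoc, hh, hk]
  -- the morphism `q : X^ν ⟶ Y^ν`
  obtain ⟨q, hq, -⟩ := Groth.Agent.H38.NormUP.existsUnique_hom Y
    ((X.fromSpecStalk (genericPoint X)).fromNormalization ≫ f) hXν (by
      intro z hz
      rw [Scheme.Hom.comp_apply, normalization_generic z hz]
      exact map_genericPoint f)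
  -- maps `W ⟶ Y^ν` over `Y`
  obtain ⟨v, -, hv⟩ := Groth.Agent.H38.NormUP.existsUnique_hom Y
    (pullback.fst f (Y.fromSpecStalk (genericPoint Y)).fromNormalization ≫ f) hW (by
      intro w hw
      rw [Scheme.Hom.comp_apply, fst_generic f w hw]
      exact map_genericPoint f)
  let k : (X.fromSpecStalk (genericPoint X)).normalization ⟶
      pullback f (Y.fromSpecStalk (genericPoint Y)).fromNormalization :=
    pullback.lift (X.fromSpecStalk (genericPoint X)).fromNormalization q hq.symm
  have hk1 : k ≫ pullback.fst f (Y.fromSpecStalk (genericPoint Y)).fromNormalization =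
      (X.fromSpecStalk (genericPoint X)).fromNormalization := pullback.lift_fst _ _ _
  have hk2 : k ≫ pullback.snd f (Y.fromSpecStalk (genericPoint Y)).fromNormalization = q :=
    pullback.lift_snd _ _ _
  have h1 : k ≫ h = 𝟙 _ := hk_h k hk1
  have h2 : h ≫ k = 𝟙 _ := by
    apply pullback.hom_ext
    · rw [Category.assoc, hk1, hh, Category.id_comp]
    · rw [Category.assoc, hk2, Category.id_comp]
      have e1 : (h ≫ q) ≫ (Y.fromSpecStalk (genericPoint Y)).fromNormalization =
          pullback.fst f (Y.fromSpecStalk (genericPoint Y)).fromNormalization ≫ f := by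
        rw [Category.assoc, hq, reassoc_of% hh]
      rw [hv (h ≫ q) e1,
        hv (pullback.snd f (Y.fromSpecStalk (genericPoint Y)).fromNormalization)
          pullback.condition.symm]
  exact ⟨h, ⟨k, h2, h1⟩, hh, hk_h⟩

end Groth.Agent.H68.NormSmooth
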