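import Groth.Agent.H68.NormSmooth.Basic

/-!
# Normalization commutes with smooth base change (integral case, via universal properties)
-/

set_option autoImplicit false
universe u

open AlgebraicGeometry CategoryTheory CategoryTheory.Limits

namespace Groth.Agent.H68.NormSmooth

variable {X Y : Scheme.{u}} (f : X ⟶ Y) [Smooth f] [IsIntegral X] [IsIntegral Y]
  [QuasiCompact (X.fromSpecStalk (genericPoint X))]
  [QuasiSeparated (X.fromSpecStalk (genericPoint X))]
  [QuasiCompact (Y.fromSpecStalk (genericPoint Y))]
  [QuasiSeparated (Y.fromSpecStalk (genericPoint Y))]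

omit [QuasiCompact (X.fromSpecStalk (genericPoint X))]
  [QuasiSeparated (X.fromSpecStalk (genericPoint X))]
  [QuasiCompact (Y.fromSpecStalk (genericPoint Y))]
  [QuasiSeparated (Y.fromSpecStalk (genericPoint Y))] in
theorem map_genericPoint : f (genericPoint X) = genericPoint Y :=
  flat_map_generic_eq f _ closure_genericPoint_mem

omit [IsIntegral X] [QuasiCompact (X.fromSpecStalk (genericPoint X))]
  [QuasiSeparated (X.fromSpecStalk (genericPoint X))] in
/-- normality of the fibre product `X ×_Y Y^ν` -/
theorem isNormalScheme_pullback :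
    Pi1.IsNormalScheme (pullback f (Y.fromSpecStalk (genericPoint Y)).fromNormalization) := by
  intro w
  have hs : w ∈ (pullback.snd f (Y.fromSpecStalk (genericPoint Y)).fromNormalization).smoothLocus := by
    rw [Scheme.Hom.smoothLocus_eq_top]; trivial
  exact Groth.Agent.H39.SmoothStalk.normal_stalk_of_mem_smoothLocus
    (pullback.snd f (Y.fromSpecStalk (genericPoint Y)).fromNormalization) w hs
    (Groth.Agent.H38.NormAffine.isNormalScheme_normalization Y _)

omit [QuasiCompact (X.fromSpecStalk (genericPoint X))]
  [QuasiSeparated (X.fromSpecStalk (genericPoint X))] in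
theorem fromNormalization_generic
    (n : (pullback.snd (Y.fromSpecStalk (genericPoint Y)) f).normalization)
    (hn : closure {n} ∈ irreducibleComponents _) :
    (pullback.snd (Y.fromSpecStalk (genericPoint Y)) f).fromNormalization n = genericPoint X := by
  obtain ⟨p, hp, rfl⟩ := (Groth.Agent.H17.isDominant_iff_maximal_points
    (pullback.snd (Y.fromSpecStalk (genericPoint Y)) f).toNormalization).mp inferInstance n hn
  haveI : Flat (Y.fromSpecStalk (genericPoint Y)) := Groth.Agent.H51.flat_fromSpecStalk Y _
  have : (pullback.snd (Y.fromSpecStalk (genericPoint Y)) f) p = genericPoint X :=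
    flat_map_generic_eq _ p hp
  rw [← this, ← Scheme.Hom.comp_apply, Scheme.Hom.toNormalization_fromNormalization]

omit [QuasiCompact (X.fromSpecStalk (genericPoint X))]
  [QuasiSeparated (X.fromSpecStalk (genericPoint X))] in
theorem fst_generic (w : ↑(pullback f (Y.fromSpecStalk (genericPoint Y)).fromNormalization))
    (hw : closure {w} ∈ irreducibleComponents _) :
    (pullback.fst f (Y.fromSpecStalk (genericPoint Y)).fromNormalization) w = genericPoint X := by
  let e₀ := (Y.fromSpecStalk (genericPoint Y)).normalizationPullback f
  let θ : pullback f (Y.fromSpecStalk (genericPoint Y)).fromNormalization ⟶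
      (pullback.snd (Y.fromSpecStalk (genericPoint Y)) f).normalization :=
    (pullbackSymmetry f (Y.fromSpecStalk (genericPoint Y)).fromNormalization).hom ≫ inv e₀
  have h0 : inv e₀ ≫ (pullback.snd (Y.fromSpecStalk (genericPoint Y)) f).fromNormalization =
      pullback.snd (Y.fromSpecStalk (genericPoint Y)).fromNormalization f :=
    (IsIso.inv_comp_eq e₀).mpr
      ((Y.fromSpecStalk (genericPoint Y)).normalizationPullback_snd f).symm
  have hθ : θ ≫ (pullback.snd (Y.fromSpecStalk (genericPoint Y)) f).fromNormalization =
      pullback.fst f (Y.fromSpecStalk (genericPoint Y)).fromNormalization := by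
    dsimp only [θ]
    rw [Category.assoc, h0, pullbackSymmetry_hom_comp_snd]
  have : IsIso θ := by dsimp only [θ]; infer_instance
  have hgen : closure {θ w} ∈ irreducibleComponents _ := by
    obtain ⟨n₀, hn₀, hc⟩ := Groth.Agent.H17.exists_generic_irreducibleComponent (θ w)
    have h1 : (inv θ) n₀ ⤳ (inv θ) (θ w) := hn₀.map (inv θ).continuous
    have h2 : (inv θ) (θ w) = w := by rw [← Scheme.Hom.comp_apply]; simp
    rw [h2] at h1
    have h3 := Groth.Agent.H17.eq_of_specializes_of_mem_irreducibleComponents hw h1
    have : n₀ = θ w := by rw [← h3, ← Scheme.Hom.comp_apply]; simp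
    rwa [← this]
  rw [← hθ, Scheme.Hom.comp_apply]
  exact fromNormalization_generic f _ hgen

end Groth.Agent.H68.NormSmooth
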